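import Cfsg.Agent.H597.R7.LineBK
import Cfsg.Agent.H48.OreFi.NineA

/-!
# `Fi24`: no cube root of `y = X 3` preserves two lines of transpositions commuting with `y` (helper597)

`L0 = {h, x1, h x1 h}`, `c = h b1`; `lineB` : if `g ^ 3 = y`, then `g` does not preserve `L0` and `c L0 c⁻¹`.
-/

set_option autoImplicit false
set_option maxRecDepth 100000

namespace Cfsg.Agent.H597.R7.LineB

open Cfsg Cfsg.Agent.Lib.PermNet Cfsg.Agent.Lib.PermNetPt Cfsg.Agent.Fischer.Fi24RepDef Cfsg.Agent.Fischer.Fi24Rep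
open Cfsg.Agent.Fischer.Fi24Spider (word_append word_cons word_nil)
open Cfsg.Agent.R08.FiTwentyFour (L)
open Cfsg.Agent.KFacts.FiTF.Pts Cfsg.Agent.KFacts.FiTF.FixMask
open Cfsg.Agent.KFacts.FiTF.Defs (tr)
open Cfsg.Agent.H840.Wd Cfsg.Agent.H597.R7.LineBK
open Cfsg.Spor (Fi24)
open Cfsg.Spor.Fi24 (Gen)

/-! ### Two involutions generating `S₃` -/

section

variable {F : Type*} [Group F]

theorem comm_of_line {g a b : F} (h9 : g ^ 9 = 1) (ha : a * a = 1) (hb : b * b = 1) (hbr : a * b * a = b * a * b)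
    (hne : a ≠ b) (h1 : g * a * g⁻¹ = a ∨ g * a * g⁻¹ = b ∨ g * a * g⁻¹ = a * b * a)
    (h2 : g * b * g⁻¹ = a ∨ g * b * g⁻¹ = b ∨ g * b * g⁻¹ = a * b * a) : Commute g (a * b) := by
  have hab3 : (a * b) * (a * b) * (a * b) = 1 := by
    calc (a * b) * (a * b) * (a * b) = (a * b * a) * (b * a * b) := by group
      _ = (a * b * a) * (a * b * a) := by rw [hbr]
      _ = a * b * (a * a) * b * a := by group
      _ = a * (b * b) * a := by rw [ha]; group
      _ = 1 := by rw [hb, mul_one, ha]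
  have hba : b * a = (a * b)⁻¹ := by
    rw [mul_inv_rev, inv_eq_of_mul_eq_one_left ha, inv_eq_of_mul_eq_one_left hb]
  have hconj : g * (a * b) * g⁻¹ = (g * a * g⁻¹) * (g * b * g⁻¹) := by group
  have hneg : g * a * g⁻¹ ≠ g * b * g⁻¹ := fun h => hne (mul_left_cancel (mul_right_cancel h))
  have key : g * (a * b) * g⁻¹ = a * b ∨ g * (a * b) * g⁻¹ = (a * b)⁻¹ := by
    rw [hconj]
    rcases h1 with h1 | h1 | h1 <;> rcases h2 with h2 | h2 | h2
    · exact absurd (h1.trans h2.symm) hneg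
    · left; rw [h1, h2]
    · right; rw [h1, h2, ← hba]
      calc a * (a * b * a) = (a * a) * b * a := by group
        _ = b * a := by rw [ha, one_mul]
    · right; rw [h1, h2, hba]
    · exact absurd (h1.trans h2.symm) hneg
    · left; rw [h1, h2, hbr]
      calc b * (b * a * b) = (b * b) * a * b := by group
        _ = a * b := by rw [hb, one_mul]
    · left; rw [h1, h2]
      calc a * b * a * a = a * b * (a * a) := by group
        _ = a * b := by rw [ha, mul_one]
    · right; rw [h1, h2, hbr, ← hba]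
      calc b * a * b * b = b * a * (b * b) := by group
        _ = b * a := by rw [hb, mul_one]
    · exact absurd (h1.trans h2.symm) hneg
  have hsq : Commute (g ^ 2) (a * b) := by
    show g ^ 2 * (a * b) = a * b * g ^ 2
    rcases key with h | h
    · have h' : Commute g (a * b) := mul_inv_eq_iff_eq_mul.1 h
      exact (h'.pow_left 2).eq
    · have e1 : g * (a * b) = (a * b)⁻¹ * g := mul_inv_eq_iff_eq_mul.1 h
      have e2 : g * (a * b)⁻¹ = (a * b) * g := by
        have : g * (a * b)⁻¹ * g⁻¹ = (g * (a * b) * g⁻¹)⁻¹ := by group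
        rw [h, inv_inv] at this
        exact mul_inv_eq_iff_eq_mul.1 this
      rw [pow_two, mul_assoc, e1, ← mul_assoc, e2, mul_assoc]
  have h10 : g = (g ^ 2) ^ 5 := by
    rw [← pow_mul, show 2 * 5 = 9 + 1 from rfl, pow_succ, h9, one_mul]
  rw [h10]
  exact hsq.pow_left 5

end

/-! ### The elements -/

/-- `y = X 3` -/
noncomputable def y : Fi24 := word yw

theorem X3_eq : Cfsg.Agent.H842.ThreeCl.X 3 = y := rfl

noncomputable def x1 : Fi24 := tr ux .l
noncomputable def b1 : Fi24 := tr ub .l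
noncomputable def t1 : Fi24 := tr ut .l

theorem isPt_x1 : IsPt x1 3235 := isPt_tr pt_x
theorem isPt_b1 : IsPt b1 241704 := isPt_tr pt_b
theorem isPt_t1 : IsPt t1 291721 := isPt_tr pt_t

theorem y_cube : y ^ 3 = 1 := by
  have h := eq_of_eqB y3
  rw [word_append, word_append, word_nil] at h
  rw [pow_succ, pow_two, mul_assoc]
  exact h

theorem y_nine : ∀ {g : Fi24}, g ^ 3 = y → g ^ 9 = 1 := by
  intro g h
  rw [show 9 = 3 * 3 from rfl, pow_mul, h, y_cube]

theorem yt_pt : IsPt (y * t1 * y⁻¹) 291801 := by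
  have h := isPt_t1.conj y
  rwa [show rho y 291721 = 291801 from rho_of_chkPt y_t] at h

theorem not_comm_t : ¬ Commute t1 (y * t1 * y⁻¹) := by
  intro h
  have h1 := (yt_pt.comm_iff t1).1 h
  have h2 : rho t1 291801 = 305301 := rho_of_chkPt t_y
  rw [h2] at h1
  exact absurd h1 (by norm_num)

/-- the product of the members of the two lines -/
theorem ident_eq : y * (gen .h * x1)⁻¹ * ((gen .h * b1) * (gen .h * x1) * (gen .h * b1)⁻¹) = t1 * (y * t1 * y⁻¹) := by
  have hrev : word yw.reverse = y⁻¹ := Cfsg.Agent.R08.TIso.word_reverse yw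
  have hh : word [.h] = gen .h := word_single _
  have hhi : (gen .h : Fi24)⁻¹ = gen .h := inv_eq_of_mul_eq_one_left (Cfsg.Agent.R08.FiTwentyFour.sq (Cfsg.Agent.R08.FiTwentyFour.gen_mem_L .h))
  have hxi : (x1 : Fi24)⁻¹ = x1 := inv_eq_of_mul_eq_one_left (Cfsg.Agent.R08.FiTwentyFour.sq isPt_x1.mem)
  have hbi : (b1 : Fi24)⁻¹ = b1 := inv_eq_of_mul_eq_one_left (Cfsg.Agent.R08.FiTwentyFour.sq isPt_b1.mem)
  have h := eq_of_eqB ident
  simp only [word_append, hrev, hh] at h
  rw [mul_inv_rev, mul_inv_rev, hhi, hxi, hbi]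
  have h' : y * (x1 * gen .h * (gen .h * b1 * (gen .h * x1 * (b1 * gen .h)))) = t1 * (y * (t1 * y⁻¹)) := h
  have h2 : t1 * (y * (t1 * y⁻¹)) = t1 * (y * t1 * y⁻¹) := by rw [mul_assoc y t1]
  rw [← h2, ← h']
  simp only [mul_assoc]

/-- the line of `h` -/
def L0 : Set Fi24 := {d | d = gen .h ∨ d = x1 ∨ d = gen .h * x1 * gen .h}

theorem braid_h : gen .h * x1 * gen .h = x1 * gen .h * x1 ∧ (gen .h : Fi24) ≠ x1 := by
  have hn : ¬ Commute (gen .h) x1 := by
    intro h
    have h1 := (isPt_x1.comm_iff (gen .h)).1 h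
    have h2 : rho (gen .h) 3235 = 3251 := by
      have := rho_of_chkPt h_x
      rwa [word_single] at this
    rw [h2] at h1
    exact absurd h1 (by norm_num)
  constructor
  · rcases Cfsg.Agent.R08.FiTwentyFour.three (Cfsg.Agent.R08.FiTwentyFour.gen_mem_L .h) isPt_x1.mem with h | h
    · exact absurd h hn
    · exact h
  · intro h
    rw [h] at hn
    exact hn (Commute.refl _)

/-- **no cube root of `y` preserves `L0` and its image under `c = h b1`** -/
theorem lineB {g : Fi24} (h3 : g ^ 3 = y) (h1 : g * gen .h * g⁻¹ ∈ L0) (h2 : g * x1 * g⁻¹ ∈ L0)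
    (h1' : ((gen .h * b1)⁻¹ * g * (gen .h * b1)) * gen .h * ((gen .h * b1)⁻¹ * g * (gen .h * b1))⁻¹ ∈ L0)
    (h2' : ((gen .h * b1)⁻¹ * g * (gen .h * b1)) * x1 * ((gen .h * b1)⁻¹ * g * (gen .h * b1))⁻¹ ∈ L0) : False := by
  have hfin : Finite Fi24 := Cfsg.Agent.R08.FiTwentyFour.finite_Fi24
  have hh := Cfsg.Agent.R08.FiTwentyFour.sq (Cfsg.Agent.R08.FiTwentyFour.gen_mem_L .h)
  have hx := Cfsg.Agent.R08.FiTwentyFour.sq isPt_x1.mem
  obtain ⟨hbr, hne⟩ := braid_h
  have h9 := y_nine h3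
  have c0 : Commute g (gen .h * x1) := comm_of_line h9 hh hx hbr hne h1 h2
  have h9' : ((gen .h * b1)⁻¹ * g * (gen .h * b1)) ^ 9 = 1 := by
    have e : ((gen .h * b1)⁻¹ * g * (gen .h * b1)) ^ 9 = (gen .h * b1)⁻¹ * g ^ 9 * (gen .h * b1) := by
      have := conj_pow (i := 9) (a := (gen .h * b1)⁻¹) (b := g)
      rwa [inv_inv] at this
    rw [e, h9]
    group
  have c1' : Commute ((gen .h * b1)⁻¹ * g * (gen .h * b1)) (gen .h * x1) := comm_of_line h9' hh hx hbr hne h1' h2'
  have c1 : Commute g ((gen .h * b1) * (gen .h * x1) * (gen .h * b1)⁻¹) := by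
    generalize gen .h * b1 = c at c1' ⊢
    generalize gen .h * x1 = v at c1' ⊢
    show g * (c * v * c⁻¹) = c * v * c⁻¹ * g
    calc g * (c * v * c⁻¹) = c * ((c⁻¹ * g * c) * v) * c⁻¹ := by group
      _ = c * (v * (c⁻¹ * g * c)) * c⁻¹ := by rw [c1'.eq]
      _ = _ := by group
  have cy : Commute g y := by rw [← h3]; exact (Commute.refl g).pow_right 3
  have c2 : Commute g (t1 * (y * t1 * y⁻¹)) := by
    rw [← ident_eq]
    exact (cy.mul_right c0.inv_right).mul_right c1
  have c3 := Cfsg.Agent.H48.OreFi.NineA.cube_comm Cfsg.Agent.H49.Four.TEight.fgroup24 isPt_t1.mem yt_pt.mem not_comm_t c2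
  rw [h3] at c3
  have h5 : y * t1 * y⁻¹ = t1 := mul_inv_eq_iff_eq_mul.2 c3.eq
  apply not_comm_t
  rw [h5]

end Cfsg.Agent.H597.R7.LineB
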