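import Cfsg.Agent.H597.R7.OrbK
import Cfsg.Agent.H597.R7.LineB
import Cfsg.Agent.H48.OreFi.Nine

/-!
# `Fi24'`: the elements of order 9 whose cube is conjugate to `X 3` (helper597)

* `count` : a set of distinct conjugates bounds the index of the centralizer;
* `card_cent_y` : `|C_{Fi24'}(y)| ≤ 153055008`;
* `moved` : if `g` moves `h` out of its line, `16 |C(g)| ≤ |C(g ^ 3)|`;
* `bound_y` : `g ^ 3 = y` implies `|C_{Fi24'}(g)| ≤ 9565938`;
* `boxB` : the bound for every `g` whose cube is conjugate to `X 3` or its inverse.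
-/

set_option autoImplicit false
set_option maxRecDepth 100000

universe u

namespace Cfsg.Agent.H597.R7.OrbA

open Subgroup
open Cfsg Cfsg.Agent.Lib.PermNet Cfsg.Agent.Lib.PermNetPt Cfsg.Agent.Fischer.Fi24RepDef Cfsg.Agent.Fischer.Fi24Rep
open Cfsg.Agent.Fischer.Fi24Spider (word_append word_cons word_nil)
open Cfsg.Agent.R08.FiTwentyFour (L)
open Cfsg.Agent.KFacts.FiTF.Pts Cfsg.Agent.KFacts.FiTF.FixMask
open Cfsg.Agent.KFacts.FiTF.Defs (tr)
open Cfsg.Agent.H840.Wd Cfsg.Agent.H838.W24 Cfsg.Agent.H597.R7.LineBK Cfsg.Agent.H597.R7.LineB Cfsg.Agent.H597.R7.OrbK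
open Cfsg.Agent.H48.OreFi.NineA (two_mul_card_le card_N width_of)
open Cfsg.Agent.H48.OreFi.Nine (cj coe_cj card_cent_equiv card_cent_inv)
open Cfsg.Spor (Fi24)
open Cfsg.Spor.Fi24 (Gen)

/-! ### Counting conjugates -/

theorem count {G : Type u} [Group G] [Finite G] {A B : Subgroup G} {g : G} (hA : ∀ a ∈ A, a * g = g * a) (hAB : A ≤ B)
    {n : ℕ} (f : Fin n → G) (hf : ∀ i, f i ∈ B) (hinj : ∀ i j, f i * g * (f i)⁻¹ = f j * g * (f j)⁻¹ → i = j) :
    n * Nat.card A ≤ Nat.card B := by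
  have h1 : Nat.card (Fin n × A) = n * Nat.card A := by
    rw [Nat.card_prod, Nat.card_eq_fintype_card, Fintype.card_fin]
  rw [← h1]
  refine Nat.card_le_card_of_injective (fun p => (⟨f p.1 * (p.2 : G), mul_mem (hf p.1) (hAB p.2.2)⟩ : B)) ?_
  rintro ⟨i, a⟩ ⟨j, b⟩ h
  have h2 : f i * (a : G) = f j * (b : G) := congrArg Subtype.val h
  have key : ∀ (c : G) (d : A), f = f → (c * (d : G)) * g * (c * (d : G))⁻¹ = c * g * c⁻¹ := by
    intro c d _
    rw [mul_assoc c (d : G) g, hA _ d.2]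
    group
  have h3 : i = j := by
    apply hinj
    rw [← key (f i) a rfl, ← key (f j) b rfl, h2]
  subst h3
  have h4 : a = b := Subtype.ext (mul_left_cancel h2)
  rw [h4]

/-! ### The orbits -/

theorem treeW_spec {W : List (List Gen)} {K : Subgroup Fi24} (hK : ∀ w ∈ W, word w ∈ K) {p0 : ℕ}
    {es : List (ℕ × ℕ × ℕ)} {vis : List ℕ} (h : treeB (W.map fun w => nw w false) es vis = true)
    (hv : ∀ q ∈ vis, ∃ c ∈ K, rho c q = p0) : ∀ e ∈ es, ∃ c ∈ K, rho c e.1 = p0 := by
  induction es generalizing vis with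
  | nil => intro e he; exact absurd he (by simp)
  | cons a es ih =>
    have h' : (Bool.rec false (Bool.rec false (treeB (W.map fun w => nw w false) es (a.1 :: vis)) (memB a.2.2 vis))
      (Nat.beq (winv ((W.map fun w => nw w false).getD a.2.1 []) a.1) a.2.2) : Bool) = true := h
    cases h1 : Nat.beq (winv ((W.map fun w => nw w false).getD a.2.1 []) a.1) a.2.2
    · rw [h1] at h'
      exact absurd h' (by simp)
    · rw [h1] at h'
      cases h2 : memB a.2.2 vis
      · rw [h2] at h'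
        exact absurd h' (by simp)
      · rw [h2] at h'
        obtain ⟨c, hc, hc1⟩ := hv _ (memB_spec h2)
        have h3 : winv ((W.map fun w => nw w false).getD a.2.1 []) a.1 = a.2.2 := Nat.eq_of_beq_eq_true h1
        have ha : ∃ c ∈ K, rho c a.1 = p0 := by
          by_cases hk : a.2.1 < W.length
          · have h4 : (W.map fun w => nw w false).getD a.2.1 [] = nw W[a.2.1] false := by
              rw [List.getD_eq_getElem _ _ (by rw [List.length_map]; exact hk), List.getElem_map]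
            rw [h4, winv_eq (wok _ _), ← rho_word] at h3
            have h5 : word W[a.2.1] ∈ K := hK _ (List.getElem_mem hk)
            refine ⟨c * (word W[a.2.1])⁻¹, K.mul_mem hc (K.inv_mem h5), ?_⟩
            rw [map_mul, Equiv.Perm.mul_apply, map_inv]
            have h6 : (rho (word W[a.2.1]))⁻¹ a.1 = a.2.2 := h3
            rw [h6, hc1]
          · have h4 : (W.map fun w => nw w false).getD a.2.1 [] = [] := by
              rw [List.getD_eq_default _ _ (by rw [List.length_map]; omega)]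
            rw [h4] at h3
            have h5 : a.1 = a.2.2 := h3
            exact ⟨c, hc, by rw [h5]; exact hc1⟩
        intro e he
        rcases List.mem_cons.1 he with rfl | he
        · exact ha
        · refine ih h' ?_ e he
          intro q hq
          rcases List.mem_cons.1 hq with rfl | hq
          · exact ha
          · exact hv q hq

/-- the even elements commuting with `y` and `h` -/
noncomputable def K0 : Subgroup Fi24 := Cw y [gen .h] ⊓ commutator Fi24

theorem isPt_h : IsPt (gen .h) 4 := isPt_gen .h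

theorem sgn_word_even : ∀ {w : List Gen}, w.length % 2 = 0 → Cfsg.Agent.Fischer.Fi24Final.sgn (word w) = 1
  | [], _ => by rw [word_nil, map_one]
  | [a], h => absurd h (by simp)
  | a :: b :: w, h => by
    rw [word_cons, word_cons, map_mul, map_mul]
    have ha : Cfsg.Agent.Fischer.Fi24Final.sgn (gen a) = -1 := Cfsg.Agent.Fischer.Fi24Final.sgn_gen a
    have hb : Cfsg.Agent.Fischer.Fi24Final.sgn (gen b) = -1 := Cfsg.Agent.Fischer.Fi24Final.sgn_gen b
    rw [ha, hb, sgn_word_even (w := w) (by simp only [List.length_cons] at h; omega)]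
    decide

theorem mem_K0 {w : List Gen} (h1 : eqB (w ++ yw) (yw ++ w) = true) (h2 : chkPt (nw w false) 4 4 = true)
    (h3 : w.length % 2 = 0) : word w ∈ K0 := by
  refine ⟨⟨?_, ?_⟩, Cfsg.Agent.R08.FiTwentyFour.mem_commutator_iff.2 (sgn_word_even h3)⟩
  · have h := eq_of_eqB h1
    rwa [word_append, word_append] at h
  · intro s hs
    rw [List.mem_singleton] at hs
    rw [hs, isPt_h.comm_iff]
    exact rho_of_chkPt h2

theorem gw_mem : ∀ w ∈ GW, word w ∈ K0 := by
  intro w hw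
  simp only [GW, List.mem_cons, List.not_mem_nil, or_false] at hw
  rcases hw with rfl | rfl | rfl | rfl
  · exact mem_K0 comm0 fix0 (by decide)
  · exact mem_K0 comm1 fix1 (by decide)
  · exact mem_K0 comm2 fix2 (by decide)
  · exact mem_K0 comm3 fix3 (by decide)

theorem orb_of {r : ℕ} {es : List (ℕ × ℕ × ℕ)} (h : treeB (GW.map fun w => nw w false) es [r] = true) {p q : ℕ}
    (hp : p ∈ pt r es) (hq : q ∈ pt r es) : ∃ c ∈ K0, rho c p = q := by
  have key : ∀ p ∈ pt r es, ∃ c ∈ K0, rho c p = r := by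
    intro p hp
    rcases List.mem_cons.1 hp with rfl | hp
    · exact ⟨1, one_mem _, by rw [map_one]; rfl⟩
    · obtain ⟨e, he, rfl⟩ := List.mem_map.1 hp
      refine treeW_spec gw_mem h ?_ e he
      intro q hq
      rw [List.mem_singleton] at hq
      exact ⟨1, one_mem _, by rw [map_one, hq]; rfl⟩
  obtain ⟨a, ha, ha'⟩ := key p hp
  obtain ⟨b, hb, hb'⟩ := key q hq
  refine ⟨b⁻¹ * a, K0.mul_mem (K0.inv_mem hb) ha, ?_⟩
  rw [map_mul, Equiv.Perm.mul_apply, ha', map_inv, Equiv.Perm.inv_eq_iff_eq]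
  exact hb'.symm

theorem exists_orb {p : ℕ} (hp : p ∈ pts bT0 bE0) : p = 4 ∨ p = 3235 ∨ p = 3251 ∨
    ∃ l : List ℕ, l.Nodup ∧ 16 ≤ l.length ∧ ∀ q ∈ l, ∃ c ∈ K0, rho c p = q := by
  rcases cover p hp with h | h | h | h | h | h | h
  · exact Or.inl h
  · exact Or.inr (Or.inl h)
  · exact Or.inr (Or.inr (Or.inl h))
  · exact Or.inr (Or.inr (Or.inr ⟨_, nd0.1, nd0.2, fun q hq => orb_of tree0 h hq⟩))
  · exact Or.inr (Or.inr (Or.inr ⟨_, nd1.1, nd1.2, fun q hq => orb_of tree1 h hq⟩))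
  · exact Or.inr (Or.inr (Or.inr ⟨_, nd2.1, nd2.2, fun q hq => orb_of tree2 h hq⟩))
  · exact Or.inr (Or.inr (Or.inr ⟨_, nd3.1, nd3.2, fun q hq => orb_of tree3 h hq⟩))

/-! ### The centralizer of `y` -/

theorem card_cent_y {s : Spor.Fi24'} (hs : (s : Fi24) = y) :
    Nat.card (centralizer ({s} : Set Spor.Fi24')) ≤ 153055008 := by
  have hfin : Finite Fi24 := Cfsg.Agent.R08.FiTwentyFour.finite_Fi24
  have hs3 : (s : Fi24) ^ 3 = 1 := by rw [hs]; exact y_cube
  have hs1 : (s : Fi24) ≠ 1 := by rw [hs, ← X3_eq]; exact Cfsg.Agent.H842.ThreeMain.X_ne 3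
  have ho3 : orderOf (s : Fi24) = 3 := orderOf_eq_prime hs3 hs1
  have hcard : Nat.card (zpowers (s : Fi24)) = 3 := by rw [Nat.card_zpowers, ho3]
  have hw : Cfsg.commutingWidth (L ∩ (Subgroup.centralizer ((zpowers (s : Fi24) : Subgroup Fi24) : Set Fi24) : Set Fi24)) =
      2 := by
    have h := width_of (s := (s : Fi24)) (y := 1) (i := 3) (Or.inl (by rw [one_mul, inv_one, mul_one, hs, X3_eq]))
    rw [h]
    rfl
  have hN := card_N (Cfsg.Agent.H832.WTwo.Main.main Cfsg.Agent.H49.Four.TEight.fgroup24 Cfsg.Agent.H49.Four.TEight.isT8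
    (zpowers (s : Fi24)) hcard hw)
  obtain ⟨t₁, t₂, hP⟩ := Cfsg.Agent.H832.WTwo.Uniq.exists_pair hw
  have c1 : Commute (s : Fi24) t₁ := hP.cx _ (mem_zpowers _)
  let N : Subgroup Fi24 := normalizer ((zpowers (s : Fi24) : Subgroup Fi24) : Set Fi24)
  let C : Subgroup Fi24 := centralizer ({(s : Fi24)} : Set Fi24)
  let C' : Subgroup Fi24 := C ⊓ commutator Fi24
  have hsgn : Cfsg.Agent.Fischer.Fi24Final.sgn t₁ = -1 := Cfsg.Agent.R08.FiTwentyFour.sgn_L hP.hx
  have l1 : 2 * Nat.card C ≤ Nat.card N := by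
    obtain ⟨j, -, hjj, hj⟩ := Cfsg.Agent.H49.Four.ThreeInv.three_inv24 hs3
    have hmem : ∀ x : Fi24, x ∈ N ↔ x * (s : Fi24) * x⁻¹ = s ∨ x * (s : Fi24) * x⁻¹ = (s : Fi24)⁻¹ := fun x =>
      Cfsg.Agent.H841.Tri.mem_norm_zp hs3 hs1
    have hji : ∀ j : Fi24, j * j = 1 → j⁻¹ = j := fun j h => inv_eq_of_mul_eq_one_left h
    refine two_mul_card_le (x := j) ?_ ((hmem j).2 (Or.inr ?_)) ?_
    · intro x hx
      exact (hmem x).2 (Or.inl (mul_inv_eq_iff_eq_mul.2 (mem_centralizer_singleton_iff.1 hx)))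
    · rw [hji j hjj, hj]
    · intro h
      have h1 : j * (s : Fi24) = s * j := mem_centralizer_singleton_iff.1 h
      have h2 : (s : Fi24) = (s : Fi24)⁻¹ := by
        rw [← hj, h1, mul_assoc, hjj, mul_one]
      have h3 : (s : Fi24) * s = 1 := by
        nth_rewrite 2 [h2]
        exact mul_inv_cancel _
      apply hs1
      rw [pow_succ, pow_two, h3, one_mul] at hs3
      exact hs3
  have l2 : 2 * Nat.card C' ≤ Nat.card C := by
    refine two_mul_card_le inf_le_left (x := t₁) (mem_centralizer_singleton_iff.2 c1.symm) ?_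
    rintro ⟨-, h⟩
    have h' := Cfsg.Agent.R08.FiTwentyFour.mem_commutator_iff.1 h
    rw [hsgn] at h'
    exact absurd h' (by decide)
  have l4 : Nat.card (centralizer ({s} : Set Spor.Fi24')) ≤ Nat.card C' := by
    have e1 : Nat.card (centralizer ({s} : Set Spor.Fi24')) =
        Nat.card ((centralizer ({s} : Set Spor.Fi24')).map (commutator Fi24).subtype) :=
      Nat.card_congr ((centralizer ({s} : Set Spor.Fi24')).equivMapOfInjective _
        (Subgroup.subtype_injective _)).toEquiv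
    rw [e1]
    apply Subgroup.card_le_of_le
    rintro _ ⟨x, hx, rfl⟩
    refine ⟨?_, x.2⟩
    have hx' : x * s = s * x := mem_centralizer_singleton_iff.1 hx
    exact mem_centralizer_singleton_iff.2 (congrArg Subtype.val hx')
  have hN' : Nat.card N = 612220032 := hN
  omega

/-! ### The bound -/

theorem moved {g : Spor.Fi24'} (h3 : (g : Fi24) ^ 3 = y) (hm : (g : Fi24) * gen .h * (g : Fi24)⁻¹ ∉ L0) :
    16 * Nat.card (centralizer ({g} : Set Spor.Fi24')) ≤ Nat.card (centralizer ({g ^ 3} : Set Spor.Fi24')) := by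
  have hfin : Finite Fi24 := Cfsg.Agent.R08.FiTwentyFour.finite_Fi24
  have hcy : Commute y (g : Fi24) := by rw [← h3]; exact (Commute.refl _).pow_left 3
  have hch : Commute y (gen .h : Fi24) := (isPt_h.comm_iff y).2 (rho_of_chkPt y_h)
  have he : Commute y ((g : Fi24) * gen .h * (g : Fi24)⁻¹) := (hcy.mul_right hch).mul_right hcy.inv_right
  have hL : (g : Fi24) * gen .h * (g : Fi24)⁻¹ ∈ L := Cfsg.Agent.R08.FiTwentyFour.conj_mem_L isPt_h.mem _
  obtain ⟨p, hp⟩ := exists_pt hL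
  have hps : p ∈ pts bT0 bE0 := ps_zero b_sieve _ ⟨hL, he.eq, by simp⟩ p hp
  rcases exists_orb hps with h | h | h | ⟨l, hnd, hlen, hl⟩
  · exfalso
    apply hm
    rw [h] at hp
    exact Or.inl (hp.inj isPt_h)
  · exfalso
    apply hm
    rw [h] at hp
    exact Or.inr (Or.inl (hp.inj isPt_x1))
  · exfalso
    apply hm
    rw [h] at hp
    refine Or.inr (Or.inr ?_)
    have hx : rho (gen .h) 3235 = 3251 := by
      have := rho_of_chkPt h_x
      rwa [word_single] at this
    have h1 : IsPt (gen .h * x1 * (gen .h)⁻¹) 3251 := isPt_x1.conj' hx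
    have hhi : (gen .h : Fi24)⁻¹ = gen .h :=
      inv_eq_of_mul_eq_one_left (Cfsg.Agent.R08.FiTwentyFour.sq (Cfsg.Agent.R08.FiTwentyFour.gen_mem_L .h))
    rw [hhi] at h1
    exact hp.inj h1
  · have hc : ∀ i : Fin l.length, ∃ c : Spor.Fi24', (c : Fi24) * y = y * c ∧ (c : Fi24) * gen .h = gen .h * c ∧
        rho (c : Fi24) p = l.get i := by
      intro i
      obtain ⟨c, ⟨⟨h1, h2⟩, h4⟩, h5⟩ := hl _ (List.get_mem l i)
      exact ⟨⟨c, h4⟩, h1, h2 _ (List.mem_singleton.2 rfl), h5⟩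
    choose f hf1 hf2 hf3 using hc
    refine le_trans (Nat.mul_le_mul_right _ hlen) (count (g := g) ?_ ?_ f ?_ ?_)
    · intro a ha
      exact mem_centralizer_singleton_iff.1 ha
    · intro a ha
      have h1 : Commute a g := mem_centralizer_singleton_iff.1 ha
      exact mem_centralizer_singleton_iff.2 (h1.pow_right 3).eq
    · intro i
      refine mem_centralizer_singleton_iff.2 (Subtype.ext ?_)
      show (f i : Fi24) * (g : Fi24) ^ 3 = (g : Fi24) ^ 3 * (f i : Fi24)
      rw [h3]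
      exact hf1 i
    · intro i j hij
      have key : ∀ i, IsPt (((f i * g * (f i)⁻¹ : Spor.Fi24') : Fi24) * gen .h *
          ((f i * g * (f i)⁻¹ : Spor.Fi24') : Fi24)⁻¹) (l.get i) := by
        intro i
        have h1 := hp.conj' (hf3 i)
        have h2 : ((f i * g * (f i)⁻¹ : Spor.Fi24') : Fi24) * gen .h * ((f i * g * (f i)⁻¹ : Spor.Fi24') : Fi24)⁻¹ =
            (f i : Fi24) * ((g : Fi24) * gen .h * (g : Fi24)⁻¹) * (f i : Fi24)⁻¹ := by
          show (f i : Fi24) * (g : Fi24) * (f i : Fi24)⁻¹ * gen .h * ((f i : Fi24) * (g : Fi24) * (f i : Fi24)⁻¹)⁻¹ = _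
          have h5 : (f i : Fi24)⁻¹ * gen .h * (f i : Fi24) = gen .h := by
            rw [mul_assoc, ← hf2 i, inv_mul_cancel_left]
          calc (f i : Fi24) * (g : Fi24) * (f i : Fi24)⁻¹ * gen .h * ((f i : Fi24) * (g : Fi24) * (f i : Fi24)⁻¹)⁻¹
              = (f i : Fi24) * (g : Fi24) * ((f i : Fi24)⁻¹ * gen .h * (f i : Fi24)) * (g : Fi24)⁻¹ * (f i : Fi24)⁻¹ := by
                group
            _ = _ := by rw [h5]; group
        rw [h2]
        exact h1
      have h1 := key i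
      rw [hij] at h1
      exact hnd.injective_get (h1.uniq (key j))

theorem bound_moved {g : Spor.Fi24'} (h3 : (g : Fi24) ^ 3 = y) (hm : (g : Fi24) * gen .h * (g : Fi24)⁻¹ ∉ L0) :
    Nat.card (centralizer ({g} : Set Spor.Fi24')) ≤ 9565938 := by
  have h1 := moved h3 hm
  have h2 : Nat.card (centralizer ({g ^ 3} : Set Spor.Fi24')) ≤ 153055008 := card_cent_y (s := g ^ 3) h3
  omega

/-- `v0 = h x1` -/
theorem bound_conj {g : Spor.Fi24'} (h3 : (g : Fi24) ^ 3 = y) {c : Fi24} (hc : Commute c y)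
    (hm : (c⁻¹ * (g : Fi24) * c) * gen .h * (c⁻¹ * (g : Fi24) * c)⁻¹ ∉ L0) :
    Nat.card (centralizer ({g} : Set Spor.Fi24')) ≤ 9565938 := by
  have e : ((cj c⁻¹ g : Spor.Fi24') : Fi24) = c⁻¹ * (g : Fi24) * c := by rw [coe_cj, inv_inv]
  rw [← card_cent_equiv (cj c⁻¹) g]
  apply bound_moved
  · rw [coe_cj, conj_pow, h3, inv_inv, mul_assoc, ← hc.eq, inv_mul_cancel_left]
  · rw [e]
    exact hm

/-- conjugation by `h x1` -/
theorem to_h {g : Fi24} (h : (((gen .h * x1)⁻¹ * g * (gen .h * x1)) * gen .h *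
    ((gen .h * x1)⁻¹ * g * (gen .h * x1))⁻¹) ∈ L0) : g * x1 * g⁻¹ ∈ L0 := by
  obtain ⟨hbr, -⟩ := braid_h
  have hh : (gen .h : Fi24) * gen .h = 1 := Cfsg.Agent.R08.FiTwentyFour.sq (Cfsg.Agent.R08.FiTwentyFour.gen_mem_L .h)
  have hx : (x1 : Fi24) * x1 = 1 := Cfsg.Agent.R08.FiTwentyFour.sq isPt_x1.mem
  have hhi : (gen .h : Fi24)⁻¹ = gen .h := inv_eq_of_mul_eq_one_left hh
  have hxi : (x1 : Fi24)⁻¹ = x1 := inv_eq_of_mul_eq_one_left hx
  have h' : ((gen .h * x1)⁻¹ * g * (gen .h * x1)) * gen .h * ((gen .h * x1)⁻¹ * g * (gen .h * x1))⁻¹ = gen .h ∨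
    ((gen .h * x1)⁻¹ * g * (gen .h * x1)) * gen .h * ((gen .h * x1)⁻¹ * g * (gen .h * x1))⁻¹ = x1 ∨
    ((gen .h * x1)⁻¹ * g * (gen .h * x1)) * gen .h * ((gen .h * x1)⁻¹ * g * (gen .h * x1))⁻¹ =
      gen .h * x1 * gen .h := h
  show g * x1 * g⁻¹ = gen .h ∨ g * x1 * g⁻¹ = x1 ∨ g * x1 * g⁻¹ = gen .h * x1 * gen .h
  clear h
  revert h'
  generalize (gen .h : Fi24) = a at *
  generalize (x1 : Fi24) = b at *
  intro h
  have e1 : a * b * a * (a * b)⁻¹ = b := by
    rw [mul_inv_rev, hhi, hxi]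
    calc a * b * a * (b * a) = (a * b * a) * b * a := by group
      _ = b * a * b * b * a := by rw [hbr]
      _ = b * a * (b * b) * a := by group
      _ = b * (a * a) := by rw [hx]; group
      _ = b := by rw [hh, mul_one]
  have e2 : g * b * g⁻¹ = (a * b) * (((a * b)⁻¹ * g * (a * b)) * a * ((a * b)⁻¹ * g * (a * b))⁻¹) * (a * b)⁻¹ := by
    calc g * b * g⁻¹ = g * (a * b * a * (a * b)⁻¹) * g⁻¹ := by rw [e1]
      _ = _ := by group
  rw [e2]
  have e3 : a * b * b * (a * b)⁻¹ = a * b * a := by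
    rw [mul_inv_rev, hhi, hxi, mul_assoc a b b, hx]
    group
  have e4 : a * b * (a * b * a) * (a * b)⁻¹ = a := by
    rw [mul_inv_rev, hhi, hxi]
    calc a * b * (a * b * a) * (b * a) = a * (b * a * b) * a * b * a := by group
      _ = a * (a * b * a) * a * b * a := by rw [← hbr]
      _ = (a * a) * b * (a * a) * b * a := by group
      _ = (b * b) * a := by rw [hh]; group
      _ = a := by rw [hx, one_mul]
  rcases h with h | h | h
  · rw [h]; exact Or.inr (Or.inl e1)
  · rw [h]; exact Or.inr (Or.inr e3)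
  · rw [h]; exact Or.inl e4

theorem comm_v : Commute (gen .h * x1) y := by
  have h1 : Commute y (gen .h : Fi24) := (isPt_h.comm_iff y).2 (rho_of_chkPt y_h)
  have h2 : Commute y x1 := (isPt_x1.comm_iff y).2 (rho_of_chkPt y_x)
  exact (h1.mul_right h2).symm

theorem comm_c : Commute (gen .h * b1) y := by
  have h1 : Commute y (gen .h : Fi24) := (isPt_h.comm_iff y).2 (rho_of_chkPt y_h)
  have h2 : Commute y b1 := (isPt_b1.comm_iff y).2 (rho_of_chkPt y_b)
  exact (h1.mul_right h2).symm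

theorem bound_y {g : Spor.Fi24'} (h3 : (g : Fi24) ^ 3 = y) :
    Nat.card (centralizer ({g} : Set Spor.Fi24')) ≤ 9565938 := by
  by_contra hcon
  apply lineB h3
  · by_contra h
    exact hcon (bound_moved h3 h)
  · by_contra h
    exact hcon (bound_conj h3 comm_v fun h' => h (to_h h'))
  · by_contra h
    exact hcon (bound_conj h3 comm_c h)
  · by_contra h
    refine hcon (bound_conj h3 (c := (gen .h * b1) * (gen .h * x1)) (comm_c.mul_left comm_v) fun h' => h (to_h ?_))
    have e : ((gen .h * b1) * (gen .h * x1))⁻¹ * (g : Fi24) * ((gen .h * b1) * (gen .h * x1)) =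
        (gen .h * x1)⁻¹ * ((gen .h * b1)⁻¹ * (g : Fi24) * (gen .h * b1)) * (gen .h * x1) := by group
    rwa [e] at h'

/-- **Box B**: the elements whose cube is conjugate to `X 3` or its inverse -/
theorem boxB {g : Spor.Fi24'} (h : ∃ z : Fi24, z * (g : Fi24) ^ 3 * z⁻¹ = Cfsg.Agent.H842.ThreeCl.X 3 ∨
    z * (g : Fi24) ^ 3 * z⁻¹ = (Cfsg.Agent.H842.ThreeCl.X 3)⁻¹) :
    Nat.card (centralizer ({g} : Set Spor.Fi24')) ≤ 9565938 := by
  rw [X3_eq] at h
  obtain ⟨z, hz⟩ := h
  have hpow : ((cj z g : Spor.Fi24') : Fi24) ^ 3 = z * (g : Fi24) ^ 3 * z⁻¹ := by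
    rw [coe_cj, conj_pow]
  rcases hz with hz | hz
  · rw [← card_cent_equiv (cj z) g]
    exact bound_y (hpow.trans hz)
  · rw [← card_cent_equiv (cj z) g, ← card_cent_inv]
    apply bound_y
    show (((cj z g : Spor.Fi24') : Fi24)⁻¹) ^ 3 = y
    rw [inv_pow, hpow, hz, inv_inv]

end Cfsg.Agent.H597.R7.OrbA
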