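import Cfsg.Agent.H838.W24Main
import Cfsg.Agent.H597.R7.LineBK

/-!
# `Fi24`: the orbits of the even centralizer of `y` and `h` on the transpositions commuting with `y`, kernel checks (helper597)

Four words of even length which commute with `y = l k b c e f` and `h`; their orbits on the 159 points outside the line
of `h` have lengths 27, 24, 54, 54.
-/

set_option autoImplicit false
set_option maxRecDepth 100000
set_option Elab.async false

namespace Cfsg.Agent.H597.R7.OrbK

open Cfsg Cfsg.Agent.Lib.PermNet Cfsg.Agent.Lib.PermNetPt Cfsg.Agent.Fischer.Fi24RepDef Cfsg.Agent.Fischer.Fi24Rep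
open Cfsg.Agent.Fischer.Fi24RepOrb (UG)
open Cfsg.Agent.KFacts.FiTF.FixMask
open Cfsg.Agent.H840.Wd Cfsg.Agent.H838.W24
open Cfsg.Agent.H597.R7.LineBK (yw)
open Cfsg.Spor (Fi24)
open Cfsg.Spor.Fi24 (Gen)

/-- generator 0 -/
def g0 : List Gen :=
  [.l, .k]

/-- generator 1 -/
def g1 : List Gen :=
  [.b, .c]

/-- generator 2 -/
def g2 : List Gen :=
  [.d, .h, .e, .d, .c, .b, .a, .k, .l, .k, .a, .b, .c, .d, .e, .h, .d, .l, .k, .b, .c, .e, .f, .d, .h, .e, .d, .c,
  .b, .a, .k, .l, .k, .a, .b, .c, .d, .e, .h, .d, .f, .e, .c, .b, .k, .l]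

/-- generator 3 -/
def g3 : List Gen :=
  [.d, .h, .c, .d, .b, .c, .a, .b, .k, .a, .l, .k, .l, .k, .l, .a, .k, .b, .a, .c, .b, .d, .c, .h, .d, .g, .f, .e,
  .d, .h, .i, .c, .d, .h, .j, .g, .f, .e, .d, .c, .a, .b, .k, .a, .l, .k, .l, .k, .l, .a, .k, .b, .a, .c, .d, .e,
  .f, .g, .j, .h, .d, .c, .i, .h, .d, .e, .f, .g]

/-- the generators -/
def GW : List (List Gen) := [g0, g1, g2, g3]

/-- orbit 0 : root 23, length 27 -/
def es0 : List (ℕ × ℕ × ℕ) := [
  (543, 3, 23), (207174, 2, 543), (206054, 0, 207174), (292699, 1, 207174), (208016, 2, 207174), (207367, 3, 207174),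
  (206981, 0, 206054), (206937, 1, 206054), (207984, 1, 292699), (206716, 3, 292699), (207958, 0, 208016),
  (206975, 1, 208016), (206682, 1, 206981), (495, 2, 206981), (208054, 1, 206937), (555, 2, 206937), (53, 2, 207984),
  (207011, 3, 207984), (505, 2, 206716), (292733, 1, 207958), (206016, 1, 206975), (207393, 1, 206682),
  (207200, 2, 206682), (136, 3, 505), (57, 2, 207200), (156, 3, 57)]

/-- orbit 1 : root 160, length 24 -/
def es1 : List (ℕ × ℕ × ℕ) := [
  (33763, 2, 160), (176, 3, 160), (303888, 0, 33763), (33569, 1, 33763), (34311, 2, 33763), (33779, 3, 33763),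
  (33749, 0, 303888), (34327, 1, 303888), (303872, 3, 303888), (266486, 1, 33569), (33585, 3, 33569),
  (266448, 0, 34311), (34353, 1, 34311), (266432, 1, 33749), (3255, 2, 33749), (33733, 3, 33749), (34337, 1, 34327),
  (3253, 2, 266486), (266470, 3, 266486), (33543, 1, 266448), (33559, 1, 266432), (3239, 3, 3255), (3237, 3, 3253)]

/-- orbit 2 : root 25347, length 54 -/
def es2 : List (ℕ × ℕ × ℕ) := [
  (26017, 1, 25347), (257431, 2, 25347), (26241, 3, 25347), (26247, 1, 26017), (294318, 2, 26017), (26023, 3, 26017),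
  (255379, 0, 257431), (294218, 2, 257431), (261683, 3, 257431), (294239, 2, 26241), (25349, 3, 26247),
  (294269, 0, 294318), (254515, 2, 294318), (244489, 3, 294318), (257877, 3, 255379), (244986, 3, 294218),
  (28103, 2, 261683), (294284, 0, 294239), (294248, 1, 294239), (255415, 2, 294239), (243708, 3, 294239),
  (257459, 2, 25349), (243678, 3, 294269), (259765, 3, 254515), (241674, 2, 257877), (256007, 2, 244986),
  (27013, 1, 28103), (243182, 2, 28103), (26165, 3, 28103), (244523, 3, 294284), (244952, 3, 294248),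
  (257905, 3, 255415), (254487, 0, 257459), (261655, 3, 257459), (26163, 2, 243678), (243852, 1, 241674),
  (27885, 2, 241674), (243148, 3, 241674), (257383, 0, 256007), (26133, 2, 256007), (257347, 3, 256007),
  (27287, 3, 27013), (241704, 3, 243182), (257445, 2, 244523), (259729, 3, 254487), (28097, 3, 26163),
  (243886, 3, 243852), (26131, 3, 27885), (257409, 0, 257383), (256035, 3, 257383), (27281, 1, 26133),
  (27883, 3, 26133), (27011, 2, 259729)]

/-- orbit 3 : root 25363, length 54 -/
def es3 : List (ℕ × ℕ × ℕ) := [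
  (26033, 1, 25363), (257415, 2, 25363), (26257, 3, 25363), (26263, 1, 26033), (294334, 2, 26033), (26039, 3, 26033),
  (255363, 0, 257415), (294234, 2, 257415), (261667, 3, 257415), (294223, 2, 26257), (25365, 3, 26263),
  (294253, 0, 294334), (254499, 2, 294334), (244505, 3, 294334), (257861, 3, 255363), (244970, 3, 294234),
  (28119, 2, 261667), (294300, 0, 294223), (294264, 1, 294223), (255399, 2, 294223), (243692, 3, 294223),
  (257443, 2, 25365), (243662, 3, 294253), (259749, 3, 254499), (241690, 2, 257861), (256023, 2, 244970),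
  (27029, 1, 28119), (243198, 2, 28119), (26149, 3, 28119), (244539, 3, 294300), (244936, 3, 294264),
  (257889, 3, 255399), (254471, 0, 257443), (261639, 3, 257443), (26147, 2, 243662), (243868, 1, 241690),
  (27901, 2, 241690), (243164, 3, 241690), (257399, 0, 256023), (26117, 2, 256023), (257363, 3, 256023),
  (27271, 3, 27029), (241720, 3, 243198), (257461, 2, 244539), (259713, 3, 254471), (28113, 3, 26147),
  (243902, 3, 243868), (26115, 3, 27901), (257425, 0, 257399), (256051, 3, 257399), (27265, 1, 26117),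
  (27899, 3, 26117), (27027, 2, 259713)]

/-- the points of a tree -/
def pt (r : ℕ) (es : List (ℕ × ℕ × ℕ)) : List ℕ := r :: es.map fun e => e.1

theorem comm0 : eqB (g0 ++ yw) (yw ++ g0) = true := by decide +kernel
theorem fix0 : chkPt (nw g0 false) 4 4 = true := by decide +kernel
theorem comm1 : eqB (g1 ++ yw) (yw ++ g1) = true := by decide +kernel
theorem fix1 : chkPt (nw g1 false) 4 4 = true := by decide +kernel
theorem comm2 : eqB (g2 ++ yw) (yw ++ g2) = true := by decide +kernel
theorem fix2 : chkPt (nw g2 false) 4 4 = true := by decide +kernel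
theorem comm3 : eqB (g3 ++ yw) (yw ++ g3) = true := by decide +kernel
theorem fix3 : chkPt (nw g3 false) 4 4 = true := by decide +kernel
theorem tree0 : treeB (GW.map fun w => nw w false) es0 [23] = true := by decide +kernel
theorem nd0 : (pt 23 es0).Nodup ∧ 16 ≤ (pt 23 es0).length := by decide +kernel
theorem tree1 : treeB (GW.map fun w => nw w false) es1 [160] = true := by decide +kernel
theorem nd1 : (pt 160 es1).Nodup ∧ 16 ≤ (pt 160 es1).length := by decide +kernel
theorem tree2 : treeB (GW.map fun w => nw w false) es2 [25347] = true := by decide +kernel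
theorem nd2 : (pt 25347 es2).Nodup ∧ 16 ≤ (pt 25347 es2).length := by decide +kernel
theorem tree3 : treeB (GW.map fun w => nw w false) es3 [25363] = true := by decide +kernel
theorem nd3 : (pt 25363 es3).Nodup ∧ 16 ≤ (pt 25363 es3).length := by decide +kernel

theorem cover : ∀ p ∈ pts bT0 bE0, p = 4 ∨ p = 3235 ∨ p = 3251 ∨ p ∈ pt 23 es0 ∨ p ∈ pt 160 es1 ∨
    p ∈ pt 25347 es2 ∨ p ∈ pt 25363 es3 := by
  decide +kernel

end Cfsg.Agent.H597.R7.OrbK
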